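import Mathlib
/-!
Stalkwise criteria on a site with a covering family of points, for coefficient categories in any universe.
-/

set_option autoImplicit false
set_option backward.isDefEq.respectTransparency false

universe w w' v v' u u' t

open CategoryTheory CategoryTheory.Limits Opposite

namespace Groth.Agent.SitePts

variable {C : Type u} [Category.{v} C] {J : GrothendieckTopology C}

/-- A sieve covers as soon as it is jointly surjective on the fibres of the points `P`. -/
def Detects {ι : Type t} (P : ι → GrothendieckTopology.Point.{w} J) : Prop :=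
  ∀ ⦃X : C⦄ (R : Sieve X), (∀ (i : ι) (x : (P i).fiber.obj X),
    ∃ (Y : C) (g : Y ⟶ X) (_ : R g) (y : (P i).fiber.obj Y), (P i).fiber.map g y = x) → R ∈ J X

variable {ι : Type t} {P : ι → GrothendieckTopology.Point.{w} J} (hP : Detects P)
variable {A : Type u'} [Category.{v'} A] [HasColimitsOfSize.{w, w} A]
  {FC : A → A → Type*} {CC : A → Type w'}
  [∀ (X Y : A), FunLike (FC X Y) (CC X) (CC Y)] [ConcreteCategory.{w'} A FC]
  [PreservesFilteredColimitsOfSize.{w, w} (forget A)] [LocallySmall.{w} C]

include hP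

theorem isLocallyInjective {F G : Cᵒᵖ ⥤ A} (f : F ⟶ G)
    (h : ∀ i, Function.Injective ((P i).presheafFiber.map f)) : Presheaf.IsLocallyInjective J f where
  equalizerSieve_mem {X} s t hst := hP _ fun i x => by
    obtain ⟨Y, g, y, hy, hg⟩ := ((P i).toPresheafFiber_eq_iff' X.unop x s t).1 <| h i <| by
      rw [(P i).toPresheafFiber_naturality_apply f, (P i).toPresheafFiber_naturality_apply f]
      exact congrArg _ hst
    exact ⟨Y, g, hg, y, hy⟩

theorem isLocallySurjective {F G : Cᵒᵖ ⥤ A} (f : F ⟶ G)
    (h : ∀ i, Function.Surjective ((P i).presheafFiber.map f)) : Presheaf.IsLocallySurjective J f where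
  imageSieve_mem {U} z := hP _ fun i x => by
    obtain ⟨p, hp⟩ := h i ((P i).toPresheafFiber U x G z)
    obtain ⟨V, v, s, rfl⟩ := (P i).toPresheafFiber_jointly_surjective p
    rw [(P i).toPresheafFiber_naturality_apply f] at hp
    obtain ⟨⟨W, w'⟩, ⟨a, ha⟩, ⟨b, hb⟩, -⟩ :=
      IsCofilteredOrEmpty.cone_objs (C := (P i).fiber.Elements) ⟨V, v⟩ ⟨U, x⟩
    dsimp at a b ha hb
    change (P i).fiber.obj W at w'
    replace ha : (P i).fiber.map a w' = v := ha
    replace hb : (P i).fiber.map b w' = x := hb
    rw [← ha, ← hb, ← (P i).toPresheafFiber_w_apply a, ← (P i).toPresheafFiber_w_apply b,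
      (P i).toPresheafFiber_eq_iff'] at hp
    obtain ⟨Y, g, y, rfl, hg⟩ := hp
    refine ⟨Y, g ≫ b, ⟨F.map (g ≫ a).op s, ?_⟩, y, by simp [← hb]⟩
    simpa [NatTrans.naturality_apply] using hg

end Groth.Agent.SitePts
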