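import Mathlib
/-!
Points and inverse images: the comparison map on stalks, and stalks of the counit.
-/

set_option autoImplicit false
set_option backward.isDefEq.respectTransparency false
set_option backward.isDefEq.respectTransparency.types false

universe w v v' u u' v₁ u₁

open CategoryTheory CategoryTheory.Limits Opposite GrothendieckTopology

namespace Groth.Agent.SitePts

variable {C : Type u} [Category.{v} C] {D : Type u'} [Category.{v'} D]
  {J : GrothendieckTopology C} {K : GrothendieckTopology D}
  (Φ : Point.{w} K) (F : C ⥤ D) [RepresentablyFlat F] (hF : CoverPreserving J K F)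
  [InitiallySmall.{w} (F ⋙ Φ.fiber).Elements]
  (A : Type u₁) [Category.{v₁} A] [HasColimitsOfSize.{w, w} A]

/-- The canonical map from the stalk of a direct image to the stalk. -/
noncomputable def comapStalk (P : Dᵒᵖ ⥤ A) :
    (Φ.comap F hF).presheafFiber.obj (F.op ⋙ P) ⟶ Φ.presheafFiber.obj P :=
  (Φ.comap F hF).presheafFiberDesc (fun X x => Φ.toPresheafFiber (F.obj X) x P) fun X Y g x => by
    simp; rfl

@[reassoc]
theorem toPresheafFiber_comapStalk (P : Dᵒᵖ ⥤ A) (X : C) (x : Φ.fiber.obj (F.obj X)) :
    (Φ.comap F hF).toPresheafFiber X x (F.op ⋙ P) ≫ comapStalk Φ F hF A P = Φ.toPresheafFiber (F.obj X) x P :=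
  (Φ.comap F hF).toPresheafFiber_presheafFiberDesc _ _ _ _

theorem comapStalk_naturality {P Q : Dᵒᵖ ⥤ A} (a : P ⟶ Q) :
    (Φ.comap F hF).presheafFiber.map (Functor.whiskerLeft F.op a) ≫ comapStalk Φ F hF A Q =
      comapStalk Φ F hF A P ≫ Φ.presheafFiber.map a := by
  refine (Φ.comap F hF).presheafFiber_hom_ext fun X x => ?_
  rw [Point.toPresheafFiber_naturality_assoc, toPresheafFiber_comapStalk, toPresheafFiber_comapStalk_assoc,
    Point.toPresheafFiber_naturality]
  rfl

variable [HasProducts.{w} A] [Functor.IsContinuous F J K]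
  [(F.sheafPushforwardContinuous A J K).IsRightAdjoint]

/-- Stalks of the unit followed by the comparison compute the stalk of an inverse image. -/
theorem comapIso_hom_app (G : Sheaf J A) :
    (Φ.sheafFiberComapIso F hF A).hom.app G =
      (Φ.comap F hF).sheafFiber.map ((F.sheafAdjunctionContinuous A J K).unit.app G) ≫
        comapStalk Φ F hF A ((F.sheafPullback A J K).obj G).obj := by
  let α := Φ.skyscraperSheafFunctorCompSheafPushforwardContinuous F hF A
  let adj1 := (F.sheafAdjunctionContinuous A J K).comp (Φ.skyscraperSheafAdjunction (A := A))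
  have h1 : (Φ.sheafFiberComapIso F hF A).hom.app G =
      ((Φ.comap F hF).skyscraperSheafAdjunction.homEquiv _ _).symm (adj1.unit.app G ≫ α.hom.app _) := by
    simp [Point.sheafFiberComapIso, conjugateIsoEquiv, conjugateEquiv_symm_apply_app,
      Adjunction.homEquiv_counit, adj1, α]
  rw [h1]
  have key : ∀ Q : Sheaf K A,
      ((Φ.comap F hF).skyscraperSheafAdjunction.homEquiv _ (Φ.sheafFiber.obj Q)).symm
        ((F.sheafPushforwardContinuous A J K).map (Φ.skyscraperSheafAdjunction.unit.app Q)) =
        comapStalk Φ F hF A Q.obj := fun Q => by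
    refine (Point.skyscraperSheafAdjunction_homEquiv_symm_apply _ _).trans ?_
    refine (Φ.comap F hF).presheafFiber_hom_ext fun X x => ?_
    rw [Point.toPresheafFiber_skyscraperPresheafHomEquiv_symm]
    erw [toPresheafFiber_comapStalk]
    change (Φ.skyscraperSheafAdjunction.unit.app _).hom.app (op (F.obj X)) ≫ Pi.π _ x = _
    have hu : (Φ.skyscraperSheafAdjunction.unit.app Q).hom = Φ.skyscraperPresheafHomEquiv (𝟙 _) :=
      Eq.trans (congrArg (fun m => m.hom) (Φ.skyscraperSheafAdjunction.homEquiv_id Q).symm)
        (Point.skyscraperSheafAdjunction_homEquiv_apply_hom Φ _)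
    rw [hu]
    erw [Point.skyscraperPresheafHomEquiv_app_π]
    exact Category.comp_id _
  simp only [adj1, α, Adjunction.comp_unit_app, Point.skyscraperSheafFunctorCompSheafPushforwardContinuous,
    Iso.refl_hom, NatTrans.id_app, Category.comp_id]
  erw [Category.comp_id]
  refine ((Φ.comap F hF).skyscraperSheafAdjunction.homEquiv_naturality_left_symm _ _).trans ?_
  exact congrArg (CategoryStruct.comp ((Φ.comap F hF).sheafFiber.map ((F.sheafAdjunctionContinuous A J K).unit.app G)))
    (key ((F.sheafPullback A J K).obj G))

/-- When the comparison maps are isomorphisms, stalks of the counit are isomorphisms. -/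
theorem isIso_sheafFiber_counit (h : ∀ P : Sheaf K A, IsIso (comapStalk Φ F hF A P.obj)) (P : Sheaf K A) :
    IsIso (Φ.sheafFiber.map ((F.sheafAdjunctionContinuous A J K).counit.app P)) := by
  let adj := F.sheafAdjunctionContinuous A J K
  haveI := h
  haveI hη : ∀ G, IsIso ((Φ.comap F hF).sheafFiber.map (adj.unit.app G)) := fun G => by
    have hiso : IsIso ((Φ.sheafFiberComapIso F hF A).hom.app G) := inferInstance
    rw [comapIso_hom_app] at hiso
    exact IsIso.of_isIso_comp_right _ (comapStalk Φ F hF A ((F.sheafPullback A J K).obj G).obj)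
  have htri := congrArg (fun m => (Φ.comap F hF).sheafFiber.map m) (adj.right_triangle_components P)
  simp only [Functor.map_comp, Functor.map_id] at htri
  haveI hpush : IsIso ((Φ.comap F hF).sheafFiber.map ((F.sheafPushforwardContinuous A J K).map (adj.counit.app P))) := by
    haveI := hη ((F.sheafPushforwardContinuous A J K).obj P)
    exact IsIso.of_isIso_fac_left htri
  have hnat := comapStalk_naturality Φ F hF A (adj.counit.app P).hom
  haveI h₂ : IsIso ((Φ.comap F hF).presheafFiber.map (Functor.whiskerLeft F.op (adj.counit.app P).hom)) := hpush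
  haveI := h ((F.sheafPullback A J K).obj ((F.sheafPushforwardContinuous A J K).obj P))
  haveI := h P
  exact IsIso.of_isIso_fac_left hnat.symm

end Groth.Agent.SitePts
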